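import Mathlib
import Cfsg.Agent.H834.T3.Count
import Cfsg.Agent.H834.T3.Arith
import Cfsg.Agent.H686.SLNine
import Cfsg.Agent.H755.Leo.PSLFour
import Cfsg.Agent.H514.OrdL34
import Cfsg.Agent.H691.T3.Defs
import Cfsg.Agent.H67.Cross
import Cfsg.Agent.S0249

/-!
# No double cover of `PSL₃(4)` with all degrees dividing degrees of `SL₃(4)` (helper834, task 2535)
-/

set_option autoImplicit false

namespace Cfsg.Agent.H834.T3

open Cfsg Cfsg.Agent.Characters Cfsg.Agent.H67 Cfsg.Agent.H686.CharKit Matrix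

/-- centralizers of elements of order `3`, `5`, `7` in `PSL₃(4)` -/
theorem cent_card {F : Type} [Field F] [Fintype F] (hF : Fintype.card F = 4) {r : ℕ} (hr : r = 3 ∨ r = 5 ∨ r = 7) :
    ∃ x : ProjectiveSpecialLinearGroup (Fin 3) F, x ^ r ^ 1 = 1 ∧
      Nat.card (Subgroup.centralizer ({x} : Set (ProjectiveSpecialLinearGroup (Fin 3) F))) ≤
        (if r = 3 then 9 else r) := by
  classical
  have : Finite (ProjectiveSpecialLinearGroup (Fin 3) F) := by
    unfold Matrix.ProjectiveSpecialLinearGroup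
    infer_instance
  have hX : Nat.card (ProjectiveSpecialLinearGroup (Fin 3) F) = 20160 :=
    H514.OC.L34.card_eq hF (MulEquiv.refl _)
  have hrp : r.Prime := by rcases hr with rfl | rfl | rfl <;> norm_num
  have := Fact.mk hrp
  have hrd : r ∣ Nat.card (ProjectiveSpecialLinearGroup (Fin 3) F) := by
    rw [hX]; rcases hr with rfl | rfl | rfl <;> norm_num
  obtain ⟨x, hx⟩ := exists_prime_orderOf_dvd_card' (G := ProjectiveSpecialLinearGroup (Fin 3) F) r hrd
  refine ⟨x, by rw [pow_one, ← hx, pow_orderOf_eq_one], ?_⟩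
  set C := Subgroup.centralizer ({x} : Set (ProjectiveSpecialLinearGroup (Fin 3) F)) with hC
  have h1 : ∀ s : ℕ, s.Prime → s ∣ Nat.card C → s = r := by
    intro s hs hsd
    by_contra hne
    have := Fact.mk hs
    obtain ⟨z, hz⟩ := exists_prime_orderOf_dvd_card' (G := C) s hsd
    have hzo : orderOf (z : ProjectiveSpecialLinearGroup (Fin 3) F) = s := by rw [Subgroup.orderOf_coe, hz]
    have hcomm : Commute (z : ProjectiveSpecialLinearGroup (Fin 3) F) x :=
      Subgroup.mem_centralizer_singleton_iff.1 z.2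
    have hcop : (orderOf (z : ProjectiveSpecialLinearGroup (Fin 3) F)).Coprime (orderOf x) := by
      rw [hzo, hx]; exact (Nat.coprime_primes hs hrp).2 hne
    have h2 := hcomm.orderOf_mul_eq_mul_orderOf_of_coprime hcop
    rw [hzo, hx] at h2
    have h3 := (H514.OC.L34.mem_range_iff hF (MulEquiv.refl (ProjectiveSpecialLinearGroup (Fin 3) F))
      (m := s * r)).1 ⟨_, h2⟩
    have hs2 := hs.two_le
    rcases h3 with h | h | h | h | h | h
    · have : 2 * r ≤ s * r := Nat.mul_le_mul_right r hs2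
      omega
    · have : 2 * r ≤ s * r := Nat.mul_le_mul_right r hs2
      omega
    · have : 2 * r ≤ s * r := Nat.mul_le_mul_right r hs2
      omega
    · have : 2 * r ≤ s * r := Nat.mul_le_mul_right r hs2
      omega
    · have : 2 * r ≤ s * r := Nat.mul_le_mul_right r hs2
      omega
    · rcases hr with rfl | rfl | rfl
      · omega
      · omega
      · omega
  have hC0 : Nat.card C ≠ 0 := Nat.card_pos.ne'
  have h2 : Nat.card C = r ^ (Nat.card C).primeFactorsList.length :=
    Nat.eq_prime_pow_of_unique_prime_dvd hC0 fun {d} hd hdd => h1 d hd hdd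
  have h3 : Nat.card C ∣ 20160 := by rw [← hX]; exact Subgroup.card_subgroup_dvd_card C
  set k := (Nat.card C).primeFactorsList.length
  rcases hr with rfl | rfl | rfl
  · rw [if_pos rfl, h2]
    have hk : k ≤ 2 := by
      by_contra hk
      have h4 : (3 : ℕ) ^ 3 ∣ 20160 := (pow_dvd_pow 3 (by omega : 3 ≤ k)).trans (h2 ▸ h3)
      norm_num at h4
    calc 3 ^ k ≤ 3 ^ 2 := Nat.pow_le_pow_right (by norm_num) hk
      _ = 9 := by norm_num
  · rw [if_neg (by norm_num), h2]
    have hk : k ≤ 1 := by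
      by_contra hk
      have h4 : (5 : ℕ) ^ 2 ∣ 20160 := (pow_dvd_pow 5 (by omega : 2 ≤ k)).trans (h2 ▸ h3)
      norm_num at h4
    calc 5 ^ k ≤ 5 ^ 1 := Nat.pow_le_pow_right (by norm_num) hk
      _ = 5 := by norm_num
  · rw [if_neg (by norm_num), h2]
    have hk : k ≤ 1 := by
      by_contra hk
      have h4 : (7 : ℕ) ^ 2 ∣ 20160 := (pow_dvd_pow 7 (by omega : 2 ≤ k)).trans (h2 ▸ h3)
      norm_num at h4
    calc 7 ^ k ≤ 7 ^ 1 := Nat.pow_le_pow_right (by norm_num) hk
      _ = 7 := by norm_num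

/-- `End(ℂⁿ)ˣ ≃ GL_n(ℂ)` -/
noncomputable def toGL (n : ℕ) : (Module.End ℂ (Fin n → ℂ))ˣ ≃* GL (Fin n) ℂ :=
  Units.mapEquiv (LinearMap.toMatrixAlgEquiv' (R := ℂ) (n := Fin n)).toMulEquiv

/-- A faithful irreducible character of a double cover of `PSL₃(4)` has degree at least 5. -/
theorem five_le {F : Type} [Field F] [Fintype F] (hF : Fintype.card F = 4) {L : Type} [Group L] [Finite L]
    {π : L →* ProjectiveSpecialLinearGroup (Fin 3) F} {c : L} (hd : PCov 2 π c) {θ : L → ℂ}
    (hθ : IsIrrCharacter L θ) (hc : θ c ≠ θ 1) : 5 ≤ charDegree θ := by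
  classical
  have hs : IsSimpleGroup (ProjectiveSpecialLinearGroup (Fin 3) F) := S0249.result 3 le_rfl
  obtain ⟨n, ρ, hρ, rfl⟩ := hθ
  have hn : charDegree ρ.character = n := by
    have hdeg := Cfsg.Agent.Blocks.Basic.irr_one_eq_charDegree (χ := ρ.character) ⟨n, ρ, hρ, rfl⟩
    rw [Representation.char_one, Module.finrank_fin_fun] at hdeg
    exact_mod_cast hdeg.symm
  rw [hn]
  refine H755.Leo.bd_psl34 hF n ⟨L, inferInstance, π, (toGL n).toMonoidHom.comp (MonoidHom.toHomUnits ρ), hd.surj, ?_, ?_, ?_⟩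
  · intro x hx y
    exact hd.comm_of_pi hx y
  · rw [hd.card_ker Nat.prime_two]; decide
  · set K := ((toGL n).toMonoidHom.comp (MonoidHom.toHomUnits ρ)).ker with hK
    have hKn : (K.map π).Normal := Subgroup.Normal.map inferInstance π hd.surj
    rcases hKn.eq_bot_or_eq_top with h | h
    · rw [Subgroup.map_eq_bot_iff] at h
      exact h
    · exfalso
      have h1 : K = ⊤ := H67.Cross.eq_top_of_perfect' hd h
      have h2 : c ∈ K := by rw [h1]; trivial
      have h3 : MonoidHom.toHomUnits ρ c = 1 := by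
        have : (toGL n) (MonoidHom.toHomUnits ρ c) = 1 := h2
        rwa [map_eq_one_iff _ (toGL n).injective] at this
      have h4 : ρ c = 1 := congrArg Units.val h3
      apply hc
      show LinearMap.trace ℂ _ (ρ c) = LinearMap.trace ℂ _ (ρ 1)
      rw [h4, map_one ρ]

/-- sum over the fibres of the degree -/
theorem sum_split {ι : Type*} (A : Finset ι) (d : ι → ℕ) (T : Finset ℕ) (h : ∀ i ∈ A, d i ∈ T) (f : ℕ → ℕ) :
    ∑ i ∈ A, f (d i) = ∑ m ∈ T, (A.filter (fun i => d i = m)).card * f m := by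
  rw [← Finset.sum_fiberwise_of_maps_to h]
  refine Finset.sum_congr rfl fun m _ => ?_
  rw [Finset.sum_congr rfl (g := fun _ => f m) (fun i hi => by rw [(Finset.mem_filter.1 hi).2]), Finset.sum_const,
    smul_eq_mul]

theorem card_split {ι : Type*} (A : Finset ι) (d : ι → ℕ) (T : Finset ℕ) (h : ∀ i ∈ A, d i ∈ T) (r : ℕ) :
    (A.filter (fun i => ¬ r ∣ d i)).card = ∑ m ∈ T, (A.filter (fun i => d i = m)).card * (if r ∣ m then 0 else 1) := by
  rw [← sum_split A d T h (fun m => if r ∣ m then 0 else 1), Finset.card_filter]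
  refine Finset.sum_congr rfl fun i _ => ?_
  by_cases hi : r ∣ d i
  · simp [hi]
  · simp [hi]

/-- the possible degrees -/
theorem mem_list {d e : ℕ} (h5 : 5 ≤ d) (h2 : 2 ∣ d) (hde : d ∣ e) (he : e ∈ Cfsg.Agent.H691.T3.DT 4) :
    d ∈ ({6, 8, 10, 12, 14, 16, 20, 28, 32, 42, 64, 84} : Finset ℕ) := by
  have he' : e = 1 ∨ e = 20 ∨ e = 64 ∨ e = 63 ∨ e = 45 ∨ e = 21 ∨ e = 84 ∨ e = 35 ∨ e = 15 := by
    rcases he with h | h | h | h | h | ⟨-, h | h⟩ | ⟨h, -⟩ | ⟨-, h | h⟩ <;> omega
  have hlt : d ≤ 84 := by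
    have : d ≤ e := Nat.le_of_dvd (by omega) hde
    omega
  rcases he' with rfl | rfl | rfl | rfl | rfl | rfl | rfl | rfl | rfl
  all_goals first
    | (exfalso; obtain ⟨k, hk⟩ := h2.trans hde; omega)
    | (clear he hlt; have hlt := Nat.le_of_dvd (by norm_num) hde; interval_cases d <;>
        first | decide | (exfalso; omega))

/-- **No double cover of `PSL₃(4)` with all degrees dividing degrees of `SL₃(4)`.** -/
theorem no_two {F : Type} [Field F] [Fintype F] (hF : Fintype.card F = 4) {L : Type} [Group L] [Finite L]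
    {π : L →* ProjectiveSpecialLinearGroup (Fin 3) F} {c : L} (hd : PCov 2 π c)
    (hdeg : ∀ θ : L → ℂ, IsIrrCharacter L θ → ∃ e ∈ Cfsg.Agent.H691.T3.DT 4, charDegree θ ∣ e) : False := by
  classical
  have hfin : Finite (ProjectiveSpecialLinearGroup (Fin 3) F) := by
    unfold Matrix.ProjectiveSpecialLinearGroup
    infer_instance
  have hX : Nat.card (ProjectiveSpecialLinearGroup (Fin 3) F) = 20160 :=
    H514.OC.L34.card_eq hF (MulEquiv.refl _)
  have := Core.finite_irr (G := L)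
  have := Fintype.ofFinite (IrrCharacter L)
  have hker := hd.card_ker Nat.prime_two
  have hQ : Nat.card (L ⧸ π.ker) = 20160 := by
    rw [Nat.card_congr (QuotientGroup.quotientKerEquivOfSurjective π hd.surj).toEquiv, hX]
  have hL : Nat.card L = 40320 := by
    rw [Subgroup.card_eq_card_quotient_mul_card_subgroup π.ker, hQ, hker]
  let A : Finset (IrrCharacter L) := Finset.univ.filter fun χ => ¬ π.ker ≤ chKer χ
  have hAmem : ∀ χ ∈ A, ¬ π.ker ≤ chKer χ := fun χ hχ => (Finset.mem_filter.1 hχ).2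
  have hAc : ∀ χ ∈ A, (χ : L → ℂ) c ≠ (χ : L → ℂ) 1 := by
    intro χ hχ h
    apply hAmem χ hχ
    rw [hd.ker_eq, Subgroup.zpowers_le]
    exact h
  have hT : ∀ χ ∈ A, charDegree (χ : L → ℂ) ∈ ({6, 8, 10, 12, 14, 16, 20, 28, 32, 42, 64, 84} : Finset ℕ) := by
    intro χ hχ
    obtain ⟨e, he, hde⟩ := hdeg χ χ.2
    exact mem_list (five_le hF hd χ.2 (hAc χ hχ))
      (H686.SLNine.dvd_of_perfect hd.perf hd.cen Nat.prime_two hd.pow χ.2 (hAc χ hχ)) hde he
  -- sum of squares
  have hsum : ∑ χ ∈ A, charDegree (χ : L → ℂ) ^ 2 = 20160 := by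
    have h1 := sum_not_le π.ker (1 : L)
    have h2 := card_centralizer_quot hd.surj (1 : L)
    have h3 : ∀ {Y : Type} [Group Y], Nat.card (Subgroup.centralizer ({(1 : Y)} : Set Y)) = Nat.card Y := by
      intro Y _
      have : Subgroup.centralizer ({(1 : Y)} : Set Y) = ⊤ := by
        rw [eq_top_iff]
        intro x _
        rw [Subgroup.mem_centralizer_singleton_iff, mul_one, one_mul]
      rw [this, Nat.card_congr Subgroup.topEquiv.toEquiv]
    rw [h2, h3, map_one, h3, hL, hX] at h1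
    have h4 : ((∑ χ ∈ A, charDegree (χ : L → ℂ) ^ 2 : ℕ) : ℝ) = 20160 := by
      rw [Nat.cast_sum]
      have h5 : ∀ χ ∈ A, ((charDegree (χ : L → ℂ) ^ 2 : ℕ) : ℝ) = Complex.normSq ((χ : L → ℂ) 1) := by
        intro χ _
        rw [← charDegree_irr χ, Complex.normSq_natCast, Nat.cast_pow, sq]
      rw [Finset.sum_congr rfl h5]
      rw [h1]; norm_num
    exact_mod_cast h4
  have hcnt : ∀ r : ℕ, (r = 3 ∨ r = 5 ∨ r = 7) →
      (A.filter (fun χ : IrrCharacter L => ¬ r ∣ charDegree (χ : L → ℂ))).card ≤ if r = 3 then 9 else r := by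
    intro r hr
    have hrp : r.Prime := by rcases hr with rfl | rfl | rfl <;> norm_num
    have := Fact.mk hrp
    obtain ⟨x, hx, hxc⟩ := cent_card hF hr
    refine le_trans (card_over_le hd.surj hker (by rcases hr with rfl | rfl | rfl <;> norm_num) hx _ ?_ ?_) hxc
    · intro χ hχ
      exact (Finset.mem_filter.1 hχ).2
    · intro χ hχ
      exact hAmem χ (Finset.mem_filter.1 hχ).1
  have h3 := hcnt 3 (by simp)
  have h5 := hcnt 5 (by simp)
  have h7 := hcnt 7 (by simp)
  rw [card_split A _ _ hT] at h3 h5 h7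
  rw [sum_split A _ _ hT (fun m => m ^ 2)] at hsum
  obtain ⟨N, hN⟩ : ∃ N : ℕ → ℕ, ∀ m, (A.filter (fun i : IrrCharacter L => charDegree (i : L → ℂ) = m)).card = N m :=
    ⟨_, fun _ => rfl⟩
  simp only [hN] at hsum h3 h5 h7
  norm_num at hsum h3 h5 h7
  exact arith (a6 := N 6) (a8 := N 8) (a10 := N 10) (a12 := N 12) (a14 := N 14) (a16 := N 16) (a20 := N 20)
    (a28 := N 28) (a32 := N 32) (a42 := N 42) (a64 := N 64) (a84 := N 84)
    (by rw [← hsum]; ring) (by linarith) (by linarith) (by linarith)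

end Cfsg.Agent.H834.T3
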