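import Mathlib
import Cfsg.Agent.H834.T3.Four
import Cfsg.Agent.H672.Over
import Cfsg.Agent.H686.SLCover
import Cfsg.Agent.S0248

/-!
# `cover3` : perfect central extensions of `PSL₃(q)` with all degrees dividing degrees of `SL₃(q)`
(helper834, task 2535, for S4855)
-/

set_option autoImplicit false

namespace Cfsg.Agent.H834.T3

open Cfsg Cfsg.Agent.Characters Cfsg.Agent.H67 Cfsg.Agent.H686.CharKit Cfsg.Agent.H686 Matrix Cfsg.Agent.H691.T3
open scoped commutatorElement

/-- an irreducible character of `N` has degree dividing a degree of `G` -/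
theorem exists_dvd {G : Type*} [Group G] [Finite G] (N : Subgroup G) [N.Normal] {θ : N → ℂ}
    (hθ : IsIrrCharacter N θ) : ∃ d ∈ charDegrees G, charDegree θ ∣ d := by
  obtain ⟨χ, hχ, h⟩ := Cfsg.Agent.H672.exists_over_subtype N hθ
  exact ⟨charDegree χ, ⟨⟨χ, hχ⟩, rfl⟩, (Cfsg.Agent.H672.charDegree_dvd_of_over N hχ hθ h).1⟩

/-- inflation keeps the degree -/
theorem charDegree_comp {A B : Type*} [Group A] [Finite A] [Group B] [Finite B] (f : A →* B)
    (hf : Function.Surjective f) {θ : B → ℂ} (hθ : IsIrrCharacter B θ) : charDegree (θ ∘ f) = charDegree θ := by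
  have e1 := charDegree_irr (⟨θ ∘ f, Core.isIrr_comp f hf hθ⟩ : IrrCharacter A)
  have e2 := charDegree_irr (⟨θ, hθ⟩ : IrrCharacter B)
  have e3 : (θ ∘ f) 1 = θ 1 := by simp
  have e4 : ((charDegree (θ ∘ f) : ℕ) : ℂ) = ((charDegree θ : ℕ) : ℂ) := by
    rw [e1, e2]; exact e3
  exact_mod_cast e4

/-- no double cover, all universes -/
theorem no_two' {F : Type*} [Field F] [Fintype F] (hF : Fintype.card F = 4) {L : Type*} [Group L] [Finite L]
    {π : L →* ProjectiveSpecialLinearGroup (Fin 3) F} {c : L} (hd : PCov 2 π c)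
    (hdeg : ∀ θ : L → ℂ, IsIrrCharacter L θ → ∃ e ∈ DT 4, charDegree θ ∣ e) : False := by
  have h3 : Fact (Nat.Prime 2) := ⟨by norm_num⟩
  let K : Type := GaloisField 2 2
  let _ : Fintype K := Fintype.ofFinite K
  have hKc : Fintype.card K = 4 := by
    rw [← Nat.card_eq_fintype_card]
    exact (GaloisField.card 2 2 (by norm_num)).trans (by norm_num)
  let eF : F ≃+* K := FiniteField.ringEquivOfCardEq (by rw [hF, hKc])
  have : Small.{0} L := by
    obtain ⟨n, ⟨e⟩⟩ := Finite.exists_equiv_fin L
    exact small_map e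
  let e : L ≃* Shrink.{0} L := (Shrink.mulEquiv (α := L)).symm
  have : Finite (Shrink.{0} L) := Finite.of_equiv L e.toEquiv
  refine no_two hKc (hd.of_equiv e (Cfsg.Agent.LieClassical.FieldTransfer.pslCongr eF)) ?_
  intro θ hθ
  obtain ⟨d, hd, hdd⟩ := hdeg (θ ∘ e.toMonoidHom) (Core.isIrr_comp e.toMonoidHom e.surjective hθ)
  rw [charDegree_comp e.toMonoidHom e.surjective hθ] at hdd
  exact ⟨d, hd, hdd⟩

/-- **Task 2535.** -/
theorem cover3 {G : Type*} [Group G] [Finite G] {F : Type*} [Field F] [Fintype F]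
    (h3 : 3 ≤ Fintype.card F) (hD : charDegrees G ⊆ DT (Fintype.card F)) (N R : Subgroup G) [N.Normal] [R.Normal]
    (hRN : R ≤ N) (hN : ⁅N, N⁆ = N) (hR : R ≤ Subgroup.centralizer (N : Set G))
    (e : (N ⧸ R.subgroupOf N) ≃* ProjectiveSpecialLinearGroup (Fin 3) F) :
    Nonempty (N ≃* SpecialLinearGroup (Fin 3) F) ∨ Nonempty (N ≃* ProjectiveSpecialLinearGroup (Fin 3) F) := by
  classical
  have _ := hRN
  have hNp : commutator N = ⊤ := by
    have h1 : (commutator N).map N.subtype = ⁅N, N⁆ := Subgroup.map_subtype_commutator N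
    rw [hN] at h1
    rw [eq_top_iff]
    intro x _
    have h2 : (x : G) ∈ (commutator N).map N.subtype := by rw [h1]; exact x.2
    obtain ⟨y, hy, hyx⟩ := h2
    have : y = x := Subtype.ext hyx
    rwa [← this]
  let f : N →* ProjectiveSpecialLinearGroup (Fin 3) F :=
    e.toMonoidHom.comp (QuotientGroup.mk' (R.subgroupOf N))
  have hf : Function.Surjective f := e.surjective.comp (QuotientGroup.mk'_surjective _)
  have hfc : f.ker ≤ Subgroup.center N := by
    intro x hx
    have h1 : e (QuotientGroup.mk x) = 1 := hx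
    have h2 : (QuotientGroup.mk x : N ⧸ R.subgroupOf N) = 1 := by
      rwa [EmbeddingLike.map_eq_one_iff] at h1
    have h3 : (x : G) ∈ R := (QuotientGroup.eq_one_iff x).1 h2
    have h4 := Subgroup.mem_centralizer_iff.1 (hR h3)
    rw [Subgroup.mem_center_iff]
    intro y
    exact Subtype.ext (h4 y y.2)
  have hSp : commutator (SpecialLinearGroup (Fin 3) F) = ⊤ := S0248.result 3 le_rfl
  have hcardF : Nat.card F = Fintype.card F := Nat.card_eq_fintype_card
  obtain ⟨η, hη, hfη⟩ := SLCover.exists_surj hNp hSp f hf hfc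
    (QuotientGroup.mk' (Subgroup.center (SpecialLinearGroup (Fin 3) F))) (QuotientGroup.mk'_surjective _)
    (by rw [QuotientGroup.ker_mk']) (by
      intro r hr hdvd
      by_cases h4 : Fintype.card F = 4
      · have hchar : CharP F 2 := by
          obtain ⟨p, hp⟩ := CharP.exists F
          obtain ⟨k, hpp, hk⟩ := FiniteField.card F p
          have h6 : p ∣ 2 ^ 2 := by
            rw [show (2 : ℕ) ^ 2 = Fintype.card F by rw [h4]; norm_num, hk]
            exact dvd_pow_self p k.pos.ne'
          have h7 : p = 2 := (Nat.prime_dvd_prime_iff_eq hpp (by norm_num)).1 (hpp.dvd_of_dvd_pow h6)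
          rwa [← h7]
        by_cases hr2 : r = 2
        · exfalso
          subst hr2
          obtain ⟨L, _, _, q, π, c, hq, -, hd⟩ := exists_pcov hr hNp hf hfc hdvd
          refine no_two' h4 hd ?_
          intro θ hθ
          obtain ⟨d, hd', hdd⟩ := exists_dvd N (Core.isIrr_comp q hq hθ)
          rw [charDegree_comp q hq hθ] at hdd
          rw [h4] at hD
          exact ⟨d, hD hd', hdd⟩
        · exact H60.CrossA.noPCov_SL_cross 2 2 hr hr2
      · exact H60.MultA.noPCov_SL ⟨by norm_num, fun h => absurd h (by norm_num), by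
          simp only [Set.mem_insert_iff, Set.mem_singleton_iff, Prod.mk.injEq, not_or, not_and]
          refine ⟨by norm_num, by norm_num, fun _ => by omega, fun _ => by omega, by norm_num⟩⟩ hr)
  -- the kernel of `η` is contained in the centre, of order 1 or 3
  have hker : η.ker ≤ Subgroup.center (SpecialLinearGroup (Fin 3) F) := by
    intro x hx
    have h1 : f (η x) = QuotientGroup.mk' (Subgroup.center (SpecialLinearGroup (Fin 3) F)) x :=
      DFunLike.congr_fun hfη x
    rw [hx, map_one] at h1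
    exact (QuotientGroup.eq_one_iff x).1 h1.symm
  have hcen : Nat.card (Subgroup.center (SpecialLinearGroup (Fin 3) F)) ∣ 3 := by
    have h1 := Nat.card_congr (SpecialLinearGroup.center_equiv_rootsOfUnity' (R := F) (0 : Fin 3)).toEquiv
    rw [h1, Fintype.card_fin, ← IsCyclic.exponent_eq_card]
    refine Monoid.exponent_dvd_of_forall_pow_eq_one fun x => ?_
    apply Subtype.ext
    exact (mem_rootsOfUnity 3 _).1 x.2
  by_cases hb : η.ker = ⊥
  · left
    exact ⟨(MulEquiv.ofBijective η ⟨(MonoidHom.ker_eq_bot_iff η).1 hb, hη⟩).symm⟩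
  · right
    have h1 : η.ker = Subgroup.center (SpecialLinearGroup (Fin 3) F) := by
      refine Subgroup.eq_of_le_of_card_ge hker ?_
      have h2 : Nat.card η.ker ∣ 3 := (Subgroup.card_dvd_of_le hker).trans hcen
      rcases (Nat.dvd_prime Nat.prime_three).1 h2 with h | h
      · exact absurd (Subgroup.eq_bot_of_card_eq _ h) hb
      · rw [h]
        exact Nat.le_of_dvd (by norm_num) hcen
    exact ⟨((QuotientGroup.quotientMulEquivOfEq h1.symm).trans
      (QuotientGroup.quotientKerEquivOfSurjective η hη)).symm⟩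

end Cfsg.Agent.H834.T3
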